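import Mathlib

/-!
Counting solutions of `g ^ n = 1` in semidirect products with semisimple abelian kernel.
-/

set_option autoImplicit false

namespace Cfsg.Agent.Lib.OrderType

open Finset

/-- Some finite solvable group of exponent dividing `m` has `f n` solutions of `g ^ n = 1`
for every `n ∣ m`. -/
def Realised (m : ℕ) (f : ℕ → ℕ) : Prop :=
  ∃ (G : Type) (_ : Group G) (_ : Finite G), Group.IsSolvable G ∧ (∀ g : G, g ^ m = 1) ∧
    ∀ n, n ∣ m → Nat.card {g : G // g ^ n = 1} = f n

theorem Realised.one (m : ℕ) : Realised m (fun _ => 1) :=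
  ⟨PUnit, inferInstance, inferInstance, inferInstance, fun _ => rfl, fun _ _ =>
    Nat.card_eq_one_iff_unique.2 ⟨inferInstance, ⟨⟨1, one_pow _⟩⟩⟩⟩

theorem card_pow_eq_one_prod (A B : Type*) [Group A] [Group B] (n : ℕ) :
    Nat.card {g : A × B // g ^ n = 1} =
      Nat.card {g : A // g ^ n = 1} * Nat.card {g : B // g ^ n = 1} := by
  rw [← Nat.card_prod]
  exact Nat.card_congr
    { toFun := fun g => (⟨g.1.1, congrArg Prod.fst g.2⟩, ⟨g.1.2, congrArg Prod.snd g.2⟩)
      invFun := fun g => ⟨(g.1.1, g.2.1), Prod.ext g.1.2 g.2.2⟩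
      left_inv := fun _ => rfl
      right_inv := fun _ => rfl }

theorem Realised.mul {m : ℕ} {f g : ℕ → ℕ} (hf : Realised m f) (hg : Realised m g) :
    Realised m (fun n => f n * g n) := by
  obtain ⟨A, _, _, hAs, hAe, hA⟩ := hf
  obtain ⟨B, _, _, hBs, hBe, hB⟩ := hg
  exact ⟨A × B, inferInstance, inferInstance, inferInstance, fun x => Prod.ext (hAe x.1) (hBe x.2),
    fun n hn => by rw [card_pow_eq_one_prod, hA n hn, hB n hn]⟩

theorem Realised.pow {m : ℕ} {f : ℕ → ℕ} (hf : Realised m f) (k : ℕ) :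
    Realised m (fun n => f n ^ k) := by
  induction k with
  | zero => simpa using Realised.one m
  | succ k ih => simpa only [pow_succ] using ih.mul hf

theorem Realised.congr {m : ℕ} {f g : ℕ → ℕ} (hf : Realised m f) (h : ∀ n, n ∣ m → f n = g n) :
    Realised m g := by
  obtain ⟨G, i1, i2, hs, he, hc⟩ := hf
  exact ⟨G, i1, i2, hs, he, fun n hn => (hc n hn).trans (h n hn)⟩

theorem card_pow_gcd {G : Type*} [Group G] {m : ℕ} (he : ∀ g : G, g ^ m = 1) (n : ℕ) :
    Nat.card {g : G // g ^ n = 1} = Nat.card {g : G // g ^ Nat.gcd n m = 1} := by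
  refine Nat.card_congr (Equiv.subtypeEquivRight fun g => ⟨fun h => pow_gcd_eq_one.2 ⟨h, he g⟩, fun h => ?_⟩)
  obtain ⟨k, hk⟩ := Nat.gcd_dvd_left n m
  rw [hk, pow_mul, h, one_pow]

/-- One semisimple component: an elementary abelian `p`-group with an automorphism of order `d`
whose nontrivial powers are fixed point free, a multiplicity, and a character of `H`. -/
structure Comp (H : Type) [Group H] where
  /-- the prime -/
  p : ℕ
  /-- rank of one copy -/
  e : ℕ
  /-- number of copies -/
  k : ℕ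
  /-- order of the automorphism -/
  d : ℕ
  hd : d ≠ 0
  hp : p.Prime
  he : e ≠ 0
  /-- the automorphism -/
  σ : (Fin e → ZMod p) →+ (Fin e → ZMod p)
  hσ : (⇑σ)^[d] = id
  hfree : ∀ j, 0 < j → j < d → ∀ a, (⇑σ)^[j] a = a → a = 0
  /-- the character, by values in `[0, d)` -/
  χ : H → ℕ
  hχd : ∀ h, χ h < d
  hχ : ∀ a b, (χ a + χ b) % d = χ (a * b)

variable {H : Type} [Group H]

/-- Order of the component. -/
def Comp.q (c : Comp H) : ℕ := (c.p ^ c.e) ^ c.k

theorem Comp.iterate_mod (c : Comp H) (n : ℕ) (a : Fin c.e → ZMod c.p) :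
    (⇑c.σ)^[n % c.d] a = (⇑c.σ)^[n] a := by
  conv_rhs => rw [← Nat.mod_add_div n c.d, Function.iterate_add_apply, Function.iterate_mul, c.hσ,
    Function.iterate_id, id_eq]

theorem Comp.χ_one (c : Comp H) : c.χ 1 = 0 := by
  have h := c.hχ 1 1
  rw [one_mul] at h
  have h1 := c.hχd 1
  rcases Nat.lt_or_ge (c.χ 1 + c.χ 1) c.d with hlt | hge
  · rw [Nat.mod_eq_of_lt hlt] at h; omega
  · rw [Nat.mod_eq_sub_mod hge, Nat.mod_eq_of_lt (by omega)] at h; omega

/-- The action of `h` on a component. -/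
def Comp.act (c : Comp H) (h : H) : (Fin c.e → ZMod c.p) →+ (Fin c.e → ZMod c.p) where
  toFun := (⇑c.σ)^[c.χ h]
  map_zero' := by
    induction c.χ h with
    | zero => rfl
    | succ n ih => rw [Function.iterate_succ_apply', ih, map_zero]
  map_add' a b := by
    induction c.χ h with
    | zero => rfl
    | succ n ih => simp only [Function.iterate_succ_apply', ih, map_add]

theorem Comp.act_mul (c : Comp H) (a b : H) (v : Fin c.e → ZMod c.p) :
    c.act (a * b) v = c.act a (c.act b v) := by
  show (⇑c.σ)^[c.χ (a * b)] v = (⇑c.σ)^[c.χ a] ((⇑c.σ)^[c.χ b] v)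
  rw [← c.hχ a b, c.iterate_mod, Function.iterate_add_apply]

theorem Comp.act_one (c : Comp H) (v : Fin c.e → ZMod c.p) : c.act 1 v = v := by
  show (⇑c.σ)^[c.χ 1] v = v
  rw [c.χ_one]; rfl

variable (cs : List (Comp H))

/-- The kernel group. -/
abbrev KerGrp : Type := ∀ i : Fin cs.length, Fin (cs[i]).k → Fin (cs[i]).e → ZMod (cs[i]).p

/-- The action on the kernel. -/
def actV (h : H) : KerGrp cs →+ KerGrp cs where
  toFun v i j := (cs[i]).act h (v i j)
  map_zero' := by funext i j; exact map_zero _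
  map_add' a b := by funext i j; exact map_add _ _ _

theorem actV_mul (a b : H) (v : KerGrp cs) : actV cs (a * b) v = actV cs a (actV cs b v) := by
  funext i j; exact Comp.act_mul _ a b _

theorem actV_one (v : KerGrp cs) : actV cs 1 v = v := by
  funext i j; exact Comp.act_one _ _

/-- The semidirect product of the kernel by `H`. -/
@[ext]
structure Ext where
  /-- kernel coordinate -/
  v : KerGrp cs
  /-- quotient coordinate -/
  h : H

instance extMul : Mul (Ext cs) := ⟨fun a b => ⟨a.v + actV cs a.h b.v, a.h * b.h⟩⟩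
instance extOne : One (Ext cs) := ⟨⟨0, 1⟩⟩
instance extInv : Inv (Ext cs) := ⟨fun a => ⟨-actV cs a.h⁻¹ a.v, a.h⁻¹⟩⟩

theorem mul_v (a b : Ext cs) : (a * b).v = a.v + actV cs a.h b.v := rfl
theorem mul_h (a b : Ext cs) : (a * b).h = a.h * b.h := rfl
theorem one_v : (1 : Ext cs).v = 0 := rfl
theorem one_h : (1 : Ext cs).h = 1 := rfl

instance extGroup : Group (Ext cs) where
  mul_assoc a b c := by
    apply Ext.ext
    · simp only [mul_v, mul_h, map_add, actV_mul, add_assoc]
    · exact mul_assoc _ _ _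
  one_mul a := by
    apply Ext.ext
    · simp only [mul_v, one_v, one_h, actV_one, zero_add]
    · exact one_mul _
  mul_one a := by
    apply Ext.ext
    · simp only [mul_v, one_v, map_zero, add_zero]
    · exact mul_one _
  inv_mul_cancel a := by
    apply Ext.ext
    · show -actV cs a.h⁻¹ a.v + actV cs a.h⁻¹ a.v = 0
      exact neg_add_cancel _
    · exact inv_mul_cancel _

/-- The projection onto `H`. -/
def proj : Ext cs →* H where
  toFun := Ext.h
  map_one' := rfl
  map_mul' _ _ := rfl

theorem isSolvable_ext [Group.IsSolvable H] : Group.IsSolvable (Ext cs) := by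
  have hk : ∀ a b : (proj cs).ker, a * b = b * a := by
    rintro ⟨a, ha⟩ ⟨b, hb⟩
    apply Subtype.ext
    have ha' : a.h = 1 := ha
    have hb' : b.h = 1 := hb
    apply Ext.ext
    · show a.v + actV cs a.h b.v = b.v + actV cs b.h a.v
      rw [ha', hb', actV_one, actV_one, add_comm]
    · show a.h * b.h = b.h * a.h
      rw [ha', hb']
  haveI : Group.IsSolvable (proj cs).ker := Group.isSolvable_of_comm hk
  exact Group.isSolvable_of_ker_le_range (proj cs).ker.subtype (proj cs) (by simp)

theorem pow_v (a : Ext cs) (n : ℕ) :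
    (a ^ n).v = ∑ j ∈ range n, actV cs (a.h ^ j) a.v ∧ (a ^ n).h = a.h ^ n := by
  induction n with
  | zero => exact ⟨by simp [one_v], by simp [one_h]⟩
  | succ n ih =>
    refine ⟨?_, by rw [pow_succ, mul_h, ih.2, ← pow_succ]⟩
    rw [pow_succ, mul_v, ih.1, ih.2, sum_range_succ]

/-- Number of solutions of `x ^ n = 1` predicted for the extension. -/
def count [Fintype H] [DecidableEq H] (n : ℕ) : ℕ :=
  ∑ h : H, if h ^ n = 1 then (cs.map fun c => if c.χ h = 0 ∧ ¬ c.p ∣ n then 1 else c.q).prod else 0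

/-- The solutions above a fixed `h` in one copy of a component. -/
abbrev Fibre (c : Comp H) (h : H) (n : ℕ) : Type :=
  {a : Fin c.e → ZMod c.p // ∑ j ∈ range n, c.act (h ^ j) a = 0}

theorem card_fibre_comp (c : Comp H) (h : H) (n : ℕ) (hn : h ^ n = 1) :
    Nat.card {a : Fin c.e → ZMod c.p // ∑ j ∈ range n, c.act (h ^ j) a = 0} =
      if c.χ h = 0 ∧ ¬ c.p ∣ n then 1 else c.p ^ c.e := by
  haveI : Fact c.p.Prime := ⟨c.hp⟩
  have hall : (∀ a, ∑ j ∈ range n, c.act (h ^ j) a = 0) →
      Nat.card {a : Fin c.e → ZMod c.p // ∑ j ∈ range n, c.act (h ^ j) a = 0} = c.p ^ c.e := by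
    intro hz
    rw [Nat.card_congr (Equiv.subtypeUnivEquiv hz), Nat.card_fun, Nat.card_zmod,
      Nat.card_eq_fintype_card, Fintype.card_fin]
  have hsum0 : c.χ h = 0 → ∀ a, ∑ j ∈ range n, c.act (h ^ j) a = n • a := by
    intro h0 a
    have : ∀ j : ℕ, c.act (h ^ j) a = a := by
      intro j
      induction j with
      | zero => rw [pow_zero, c.act_one]
      | succ j ih =>
        rw [pow_succ', c.act_mul, ih]
        show (⇑c.σ)^[c.χ h] a = a
        rw [h0]; rfl
    simp [this]
  split_ifs with hc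
  · obtain ⟨h0, hpn⟩ := hc
    rw [Nat.card_eq_one_iff_unique]
    refine ⟨⟨fun a b => Subtype.ext ?_⟩, ⟨⟨0, by simp⟩⟩⟩
    have key : ∀ a : Fin c.e → ZMod c.p, n • a = 0 → a = 0 := by
      intro a ha
      funext i
      have := congrFun ha i
      rw [Pi.smul_apply, nsmul_eq_mul, Pi.zero_apply, mul_eq_zero] at this
      exact this.resolve_left fun hz => hpn ((ZMod.natCast_eq_zero_iff _ _).1 hz)
    rw [key a.1 (by rw [← hsum0 h0]; exact a.2), key b.1 (by rw [← hsum0 h0]; exact b.2)]
  · apply hall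
    intro a
    by_cases h0 : c.χ h = 0
    · rw [hsum0 h0]
      funext i
      rw [Pi.smul_apply, nsmul_eq_mul,
        (ZMod.natCast_eq_zero_iff _ _).2 (not_not.1 fun hp => hc ⟨h0, hp⟩), zero_mul, Pi.zero_apply]
    · refine c.hfree _ (Nat.pos_of_ne_zero h0) (c.hχd h) _ ?_
      show c.act h _ = _
      have e1 : ∀ j, c.act h (c.act (h ^ j) a) = c.act (h ^ (j + 1)) a := fun j => by
        rw [pow_succ', c.act_mul]
      rw [map_sum, sum_congr rfl (fun j _ => e1 j)]
      have e2 : ∀ m : ℕ, (∑ j ∈ range m, c.act (h ^ (j + 1)) a) + a =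
          (∑ j ∈ range m, c.act (h ^ j) a) + c.act (h ^ m) a := by
        intro m
        induction m with
        | zero => simp [c.act_one]
        | succ m ih => rw [sum_range_succ, sum_range_succ, add_right_comm, ih]
      have e3 := e2 n
      rw [hn, c.act_one] at e3
      exact add_right_cancel e3

theorem card_pow_eq_one [Fintype H] [DecidableEq H] (n : ℕ) :
    Nat.card {x : Ext cs // x ^ n = 1} = count cs n := by
  classical
  haveI : ∀ i : Fin cs.length, NeZero (cs[i]).p := fun i => ⟨(cs[i]).hp.ne_zero⟩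
  have e : {x : Ext cs // x ^ n = 1} ≃ Σ h : {h : H // h ^ n = 1},
      ∀ i : Fin cs.length, Fin (cs[i]).k → Fibre (cs[i]) (h : H) n :=
    { toFun := fun x =>
        ⟨⟨x.1.h, by rw [← (pow_v cs x.1 n).2, x.2]; rfl⟩, fun i l => ⟨x.1.v i l, by
          have h1 := (pow_v cs x.1 n).1
          rw [x.2, one_v] at h1
          have h2 := congrFun (congrFun h1 i) l
          rw [Finset.sum_apply, Finset.sum_apply] at h2
          exact h2.symm⟩⟩
      invFun := fun y => ⟨⟨fun i l => (y.2 i l).1, y.1.1⟩, by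
        apply Ext.ext
        · rw [(pow_v cs _ n).1, one_v]
          funext i l
          rw [Finset.sum_apply, Finset.sum_apply]
          exact (y.2 i l).2
        · rw [(pow_v cs _ n).2, one_h]; exact y.1.2⟩
      left_inv := fun _ => rfl
      right_inv := fun _ => rfl }
  rw [Nat.card_congr e, Nat.card_sigma, count, Finset.sum_ite, Finset.sum_const_zero, add_zero,
    Finset.sum_subtype (p := fun h : H => h ^ n = 1) (Finset.univ.filter _) (by simp)]
  refine Finset.sum_congr rfl fun h _ => ?_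
  rw [Nat.card_pi, ← Fin.prod_univ_fun_getElem]
  refine Finset.prod_congr rfl fun i _ => ?_
  rw [Nat.card_fun, card_fibre_comp _ _ _ h.2, Nat.card_eq_fintype_card, Fintype.card_fin]
  simp only [Fin.getElem_fin]
  split_ifs with hc
  · exact one_pow _
  · rfl

theorem realised_ext [Fintype H] [DecidableEq H] [Group.IsSolvable H] (m : ℕ)
    (hm : count cs m = Fintype.card H * (cs.map Comp.q).prod) : Realised m (count cs) := by
  classical
  haveI : ∀ i : Fin cs.length, NeZero (cs[i]).p := fun i => ⟨(cs[i]).hp.ne_zero⟩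
  let e : Ext cs ≃ KerGrp cs × H :=
    { toFun := fun x => (x.v, x.h)
      invFun := fun y => ⟨y.1, y.2⟩
      left_inv := fun _ => rfl
      right_inv := fun _ => rfl }
  haveI : Finite (Ext cs) := Finite.of_equiv _ e.symm
  refine ⟨Ext cs, inferInstance, inferInstance, isSolvable_ext cs, ?_, fun n _ => card_pow_eq_one cs n⟩
  have hcard : Nat.card (Ext cs) = Nat.card {x : Ext cs // x ^ m = 1} := by
    rw [card_pow_eq_one, hm, Nat.card_congr e, Nat.card_prod, mul_comm, Nat.card_eq_fintype_card,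
      Nat.card_pi, ← Fin.prod_univ_fun_getElem]
    congr 1
    refine Finset.prod_congr rfl fun i _ => ?_
    simp [Comp.q]
  intro g
  by_contra hg
  exact absurd hcard (ne_of_gt (Finite.card_subtype_lt hg))

end Cfsg.Agent.Lib.OrderType
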