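import Cfsg.Agent.Lib.OrderType.Basic

/-!
Data for a solvable and a non-solvable group of the same order type
(after Piwek's construction, recomputed): all groups have exponent dividing 84.
-/

set_option autoImplicit false
set_option maxRecDepth 20000

namespace Cfsg.Agent.Lib.OrderType.Piwek

/-- Table lookup. -/
def val (l : List (ℕ × ℕ)) (n : ℕ) : ℕ := l.foldr (fun a r => if a.1 = n then a.2 else r) 0

/-- Counts of `g ^ n = 1` in `GL(3,2)`. -/
def lval (n : ℕ) : ℕ := val [(1,1),(2,22),(3,57),(4,64),(6,78),(7,49),(12,120),(14,70),(21,105),(28,112),(42,126),(84,168)] n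

/-- Conjugate an iteration to a table. -/
theorem conj_table {A : Type*} [Zero A] (f : A → A) (enc : A → ℕ) (dec : ℕ → A) (t : ℕ → ℕ) (d : ℕ)
    (hde : ∀ a, dec (enc a) = a) (hft : ∀ a, enc (f a) = t (enc a))
    (hd : ∀ a, t^[d] (enc a) = enc a ∧ ∀ j < d, 0 < j → t^[j] (enc a) = enc a → a = 0) :
    f^[d] = id ∧ ∀ j, 0 < j → j < d → ∀ a, f^[j] a = a → a = 0 := by
  have h : ∀ j a, enc (f^[j] a) = t^[j] (enc a) := fun j a => (Function.Semiconj.iterate_right hft j) a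
  refine ⟨funext fun a => ?_, fun j hj hjd a ha => (hd a).2 j hjd hj (by rw [← h, ha])⟩
  rw [← hde (f^[d] a), h, (hd a).1, hde, id_eq]

instance isSolvableD8 : Group.IsSolvable (DihedralGroup 4) := by
  haveI : Fact (Nat.Prime 2) := ⟨Nat.prime_two⟩
  have h : IsPGroup 2 (DihedralGroup 4) :=
    IsPGroup.of_card (n := 3) (by rw [DihedralGroup.nat_card]; rfl)
  haveI := h.isNilpotent
  infer_instance

def s2_3 : (Fin 2 → ZMod 2) →+ (Fin 2 → ZMod 2) :=
  AddMonoidHom.mk' (fun a => ![a 1, a 0 + a 1]) (fun a b => by funext i; fin_cases i <;> simp <;> ring)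

def t2_3 (x : ℕ) : ℕ := [0, 2, 3, 1].getD x 0

theorem b2_3 : (⇑s2_3)^[3] = id ∧
    ∀ j, 0 < j → j < 3 → ∀ a, (⇑s2_3)^[j] a = a → a = 0 :=
  conj_table s2_3 (fun a => (a 0).val * 1 + (a 1).val * 2) (fun x => ![((x / 1 : ℕ) : ZMod 2), ((x / 2 : ℕ) : ZMod 2)]) t2_3 3
    (by decide +kernel) (by decide +kernel) (by decide +kernel)

def s2_7 : (Fin 3 → ZMod 2) →+ (Fin 3 → ZMod 2) :=
  AddMonoidHom.mk' (fun a => ![a 1, a 2, a 0 + a 2]) (fun a b => by funext i; fin_cases i <;> simp <;> ring)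

def t2_7 (x : ℕ) : ℕ := [0, 4, 1, 5, 6, 2, 7, 3].getD x 0

theorem b2_7 : (⇑s2_7)^[7] = id ∧
    ∀ j, 0 < j → j < 7 → ∀ a, (⇑s2_7)^[j] a = a → a = 0 :=
  conj_table s2_7 (fun a => (a 0).val * 1 + (a 1).val * 2 + (a 2).val * 4) (fun x => ![((x / 1 : ℕ) : ZMod 2), ((x / 2 : ℕ) : ZMod 2), ((x / 4 : ℕ) : ZMod 2)]) t2_7 7
    (by decide +kernel) (by decide +kernel) (by decide +kernel)

def s2_21 : (Fin 6 → ZMod 2) →+ (Fin 6 → ZMod 2) :=
  AddMonoidHom.mk' (fun a => ![a 1, a 2, a 3, a 4, a 5, a 0 + a 2 + a 4 + a 5]) (fun a b => by funext i; fin_cases i <;> simp <;> ring)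

def t2_21 (x : ℕ) : ℕ := [0, 32, 1, 33, 34, 2, 35, 3, 4, 36, 5, 37, 38, 6, 39, 7, 40, 8, 41, 9, 10, 42, 11, 43, 44, 12, 45, 13, 14, 46, 15, 47, 48, 16, 49, 17, 18, 50, 19, 51, 52, 20, 53, 21, 22, 54, 23, 55, 24, 56, 25, 57, 58, 26, 59, 27, 28, 60, 29, 61, 62, 30, 63, 31].getD x 0

theorem b2_21 : (⇑s2_21)^[21] = id ∧
    ∀ j, 0 < j → j < 21 → ∀ a, (⇑s2_21)^[j] a = a → a = 0 :=
  conj_table s2_21 (fun a => (a 0).val * 1 + (a 1).val * 2 + (a 2).val * 4 + (a 3).val * 8 + (a 4).val * 16 + (a 5).val * 32) (fun x => ![((x / 1 : ℕ) : ZMod 2), ((x / 2 : ℕ) : ZMod 2), ((x / 4 : ℕ) : ZMod 2), ((x / 8 : ℕ) : ZMod 2), ((x / 16 : ℕ) : ZMod 2), ((x / 32 : ℕ) : ZMod 2)]) t2_21 21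
    (by decide +kernel) (by decide +kernel) (by decide +kernel)

def s3_2 : (Fin 1 → ZMod 3) →+ (Fin 1 → ZMod 3) :=
  AddMonoidHom.mk' (fun a => ![(2 : ZMod 3) * a 0]) (fun a b => by funext i; fin_cases i <;> simp <;> ring)

def t3_2 (x : ℕ) : ℕ := [0, 2, 1].getD x 0

theorem b3_2 : (⇑s3_2)^[2] = id ∧
    ∀ j, 0 < j → j < 2 → ∀ a, (⇑s3_2)^[j] a = a → a = 0 :=
  conj_table s3_2 (fun a => (a 0).val * 1) (fun x => ![((x / 1 : ℕ) : ZMod 3)]) t3_2 2
    (by decide +kernel) (by decide +kernel) (by decide +kernel)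

def s7_2 : (Fin 1 → ZMod 7) →+ (Fin 1 → ZMod 7) :=
  AddMonoidHom.mk' (fun a => ![(6 : ZMod 7) * a 0]) (fun a b => by funext i; fin_cases i <;> simp <;> ring)

def t7_2 (x : ℕ) : ℕ := [0, 6, 5, 4, 3, 2, 1].getD x 0

theorem b7_2 : (⇑s7_2)^[2] = id ∧
    ∀ j, 0 < j → j < 2 → ∀ a, (⇑s7_2)^[j] a = a → a = 0 :=
  conj_table s7_2 (fun a => (a 0).val * 1) (fun x => ![((x / 1 : ℕ) : ZMod 7)]) t7_2 2
    (by decide +kernel) (by decide +kernel) (by decide +kernel)

def s7_3 : (Fin 1 → ZMod 7) →+ (Fin 1 → ZMod 7) :=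
  AddMonoidHom.mk' (fun a => ![(2 : ZMod 7) * a 0]) (fun a b => by funext i; fin_cases i <;> simp <;> ring)

def t7_3 (x : ℕ) : ℕ := [0, 2, 4, 6, 1, 3, 5].getD x 0

theorem b7_3 : (⇑s7_3)^[3] = id ∧
    ∀ j, 0 < j → j < 3 → ∀ a, (⇑s7_3)^[j] a = a → a = 0 :=
  conj_table s7_3 (fun a => (a 0).val * 1) (fun x => ![((x / 1 : ℕ) : ZMod 7)]) t7_3 3
    (by decide +kernel) (by decide +kernel) (by decide +kernel)

def s7_6 : (Fin 1 → ZMod 7) →+ (Fin 1 → ZMod 7) :=
  AddMonoidHom.mk' (fun a => ![(3 : ZMod 7) * a 0]) (fun a b => by funext i; fin_cases i <;> simp <;> ring)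

def t7_6 (x : ℕ) : ℕ := [0, 3, 6, 2, 5, 1, 4].getD x 0

theorem b7_6 : (⇑s7_6)^[6] = id ∧
    ∀ j, 0 < j → j < 6 → ∀ a, (⇑s7_6)^[j] a = a → a = 0 :=
  conj_table s7_6 (fun a => (a 0).val * 1) (fun x => ![((x / 1 : ℕ) : ZMod 7)]) t7_6 6
    (by decide +kernel) (by decide +kernel) (by decide +kernel)

abbrev HC2x6 : Type := Multiplicative (ZMod 2 × ZMod 2 × ZMod 3)

abbrev HC42 : Type := Multiplicative (ZMod 2 × ZMod 3 × ZMod 7)

abbrev HV4 : Type := Multiplicative (ZMod 2 × ZMod 2)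

abbrev HD8C2 : Type := DihedralGroup 4 × Multiplicative (ZMod 2)

def x0 (y : HC42) : ℕ := (3 * (Multiplicative.toAdd y).1.val + 2 * (Multiplicative.toAdd y).2.1.val + 0 * (Multiplicative.toAdd y).2.2.val) % 6

theorem x0_hom : (∀ y, x0 y < 6) ∧ ∀ a b, (x0 a + x0 b) % 6 = x0 (a * b) := by decide +kernel

def x1 (y : HC42) : ℕ := (0 * (Multiplicative.toAdd y).1.val + 0 * (Multiplicative.toAdd y).2.1.val + 1 * (Multiplicative.toAdd y).2.2.val) % 7

theorem x1_hom : (∀ y, x1 y < 7) ∧ ∀ a b, (x1 a + x1 b) % 7 = x1 (a * b) := by decide +kernel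

def g0 : List (Comp HC42) := [⟨7, 1, 1, 6, by decide, by norm_num, by decide, s7_6, b7_6.1, b7_6.2, x0, x0_hom.1, x0_hom.2⟩,
  ⟨2, 3, 1, 7, by decide, by norm_num, by decide, s2_7, b2_7.1, b2_7.2, x1, x1_hom.1, x1_hom.2⟩]

theorem r0 : Realised 84 (count g0) := realised_ext g0 84 (by decide +kernel)

theorem v0 : ∀ n ∈ Nat.divisors 84, count g0 n = val [(1, 1), (2, 64), (3, 15), (4, 64), (6, 288), (7, 343), (12, 288), (14, 784), (21, 1029), (28, 784), (42, 2352), (84, 2352)] n := by decide +kernel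

def x2 (y : HC2x6) : ℕ := (1 * (Multiplicative.toAdd y).1.val + 1 * (Multiplicative.toAdd y).2.1.val + 0 * (Multiplicative.toAdd y).2.2.val) % 2

theorem x2_hom : (∀ y, x2 y < 2) ∧ ∀ a b, (x2 a + x2 b) % 2 = x2 (a * b) := by decide +kernel

def x3 (y : HC2x6) : ℕ := (0 * (Multiplicative.toAdd y).1.val + 1 * (Multiplicative.toAdd y).2.1.val + 0 * (Multiplicative.toAdd y).2.2.val) % 2

theorem x3_hom : (∀ y, x3 y < 2) ∧ ∀ a b, (x3 a + x3 b) % 2 = x3 (a * b) := by decide +kernel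

def x4 (y : HC2x6) : ℕ := (1 * (Multiplicative.toAdd y).1.val + 0 * (Multiplicative.toAdd y).2.1.val + 0 * (Multiplicative.toAdd y).2.2.val) % 2

theorem x4_hom : (∀ y, x4 y < 2) ∧ ∀ a b, (x4 a + x4 b) % 2 = x4 (a * b) := by decide +kernel

def g1 : List (Comp HC2x6) := [⟨3, 1, 1, 2, by decide, by norm_num, by decide, s3_2, b3_2.1, b3_2.2, x2, x2_hom.1, x2_hom.2⟩,
  ⟨7, 1, 1, 2, by decide, by norm_num, by decide, s7_2, b7_2.1, b7_2.2, x3, x3_hom.1, x3_hom.2⟩,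
  ⟨3, 1, 2, 2, by decide, by norm_num, by decide, s3_2, b3_2.1, b3_2.2, x4, x4_hom.1, x4_hom.2⟩]

theorem r1 : Realised 84 (count g1) := realised_ext g1 84 (by decide +kernel)

theorem v1 : ∀ n ∈ Nat.divisors 84, count g1 n = val [(1, 1), (2, 112), (3, 81), (4, 112), (6, 1296), (7, 7), (12, 1296), (14, 280), (21, 567), (28, 280), (42, 2268), (84, 2268)] n := by decide +kernel

def x5 (y : HV4) : ℕ := (0 * (Multiplicative.toAdd y).1.val + 1 * (Multiplicative.toAdd y).2.val) % 2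

theorem x5_hom : (∀ y, x5 y < 2) ∧ ∀ a b, (x5 a + x5 b) % 2 = x5 (a * b) := by decide +kernel

def g2 : List (Comp HV4) := [⟨3, 1, 1, 2, by decide, by norm_num, by decide, s3_2, b3_2.1, b3_2.2, x5, x5_hom.1, x5_hom.2⟩]

theorem r2 : Realised 84 (count g2) := realised_ext g2 84 (by decide +kernel)

theorem v2 : ∀ n ∈ Nat.divisors 84, count g2 n = val [(1, 1), (2, 8), (3, 3), (4, 8), (6, 12), (7, 1), (12, 12), (14, 8), (21, 3), (28, 8), (42, 12), (84, 12)] n := by decide +kernel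

def x6 (y : HC2x6) : ℕ := (0 * (Multiplicative.toAdd y).1.val + 3 * (Multiplicative.toAdd y).2.1.val + 2 * (Multiplicative.toAdd y).2.2.val) % 6

theorem x6_hom : (∀ y, x6 y < 6) ∧ ∀ a b, (x6 a + x6 b) % 6 = x6 (a * b) := by decide +kernel

def g3 : List (Comp HC2x6) := [⟨7, 1, 1, 2, by decide, by norm_num, by decide, s7_2, b7_2.1, b7_2.2, x3, x3_hom.1, x3_hom.2⟩,
  ⟨7, 1, 1, 6, by decide, by norm_num, by decide, s7_6, b7_6.1, b7_6.2, x6, x6_hom.1, x6_hom.2⟩]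

theorem r3 : Realised 84 (count g3) := realised_ext g3 84 (by decide +kernel)

theorem v3 : ∀ n ∈ Nat.divisors 84, count g3 n = val [(1, 1), (2, 100), (3, 15), (4, 100), (6, 324), (7, 49), (12, 324), (14, 196), (21, 147), (28, 196), (42, 588), (84, 588)] n := by decide +kernel

def x7 (y : HD8C2) : ℕ :=
  ((match y.1 with | DihedralGroup.r i => 1 * i.val | DihedralGroup.sr i => 0 + 1 * i.val) + 0 * (Multiplicative.toAdd y.2).val) % 2

theorem x7_hom : (∀ y, x7 y < 2) ∧ ∀ a b, (x7 a + x7 b) % 2 = x7 (a * b) := by decide +kernel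

def g4 : List (Comp HD8C2) := [⟨3, 1, 1, 2, by decide, by norm_num, by decide, s3_2, b3_2.1, b3_2.2, x7, x7_hom.1, x7_hom.2⟩]

theorem r4 : Realised 84 (count g4) := realised_ext g4 84 (by decide +kernel)

theorem v4 : ∀ n ∈ Nat.divisors 84, count g4 n = val [(1, 1), (2, 20), (3, 3), (4, 32), (6, 36), (7, 1), (12, 48), (14, 20), (21, 3), (28, 32), (42, 36), (84, 48)] n := by decide +kernel

def x8 (y : HC2x6) : ℕ := (0 * (Multiplicative.toAdd y).1.val + 0 * (Multiplicative.toAdd y).2.1.val + 1 * (Multiplicative.toAdd y).2.2.val) % 3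

theorem x8_hom : (∀ y, x8 y < 3) ∧ ∀ a b, (x8 a + x8 b) % 3 = x8 (a * b) := by decide +kernel

def g5 : List (Comp HC2x6) := [⟨2, 2, 1, 3, by decide, by norm_num, by decide, s2_3, b2_3.1, b2_3.2, x8, x8_hom.1, x8_hom.2⟩,
  ⟨7, 1, 1, 6, by decide, by norm_num, by decide, s7_6, b7_6.1, b7_6.2, x6, x6_hom.1, x6_hom.2⟩,
  ⟨3, 1, 3, 2, by decide, by norm_num, by decide, s3_2, b3_2.1, b3_2.2, x3, x3_hom.1, x3_hom.2⟩]

theorem r5 : Realised 84 (count g5) := realised_ext g5 84 (by decide +kernel)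

theorem v5 : ∀ n ∈ Nat.divisors 84, count g5 n = val [(1, 1), (2, 1520), (3, 1539), (4, 1520), (6, 7776), (7, 7), (12, 7776), (14, 1568), (21, 1701), (28, 1568), (42, 9072), (84, 9072)] n := by decide +kernel

def g6 : List (Comp HC2x6) := [⟨3, 1, 3, 2, by decide, by norm_num, by decide, s3_2, b3_2.1, b3_2.2, x3, x3_hom.1, x3_hom.2⟩,
  ⟨7, 1, 1, 6, by decide, by norm_num, by decide, s7_6, b7_6.1, b7_6.2, x6, x6_hom.1, x6_hom.2⟩,
  ⟨7, 1, 2, 2, by decide, by norm_num, by decide, s7_2, b7_2.1, b7_2.2, x4, x4_hom.1, x4_hom.2⟩]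

theorem r6 : Realised 84 (count g6) := realised_ext g6 84 (by decide +kernel)

theorem v6 : ∀ n ∈ Nat.divisors 84, count g6 n = val [(1, 1), (2, 9500), (3, 405), (4, 9500), (6, 48600), (7, 343), (12, 48600), (14, 19208), (21, 27783), (28, 19208), (42, 111132), (84, 111132)] n := by decide +kernel

def x9 (y : HD8C2) : ℕ :=
  ((match y.1 with | DihedralGroup.r i => 0 * i.val | DihedralGroup.sr i => 0 + 0 * i.val) + 1 * (Multiplicative.toAdd y.2).val) % 2

theorem x9_hom : (∀ y, x9 y < 2) ∧ ∀ a b, (x9 a + x9 b) % 2 = x9 (a * b) := by decide +kernel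

def x10 (y : HD8C2) : ℕ :=
  ((match y.1 with | DihedralGroup.r i => 1 * i.val | DihedralGroup.sr i => 0 + 1 * i.val) + 1 * (Multiplicative.toAdd y.2).val) % 2

theorem x10_hom : (∀ y, x10 y < 2) ∧ ∀ a b, (x10 a + x10 b) % 2 = x10 (a * b) := by decide +kernel

def g7 : List (Comp HD8C2) := [⟨3, 1, 1, 2, by decide, by norm_num, by decide, s3_2, b3_2.1, b3_2.2, x9, x9_hom.1, x9_hom.2⟩,
  ⟨7, 1, 1, 2, by decide, by norm_num, by decide, s7_2, b7_2.1, b7_2.2, x10, x10_hom.1, x10_hom.2⟩]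

theorem r7 : Realised 84 (count g7) := realised_ext g7 84 (by decide +kernel)

theorem v7 : ∀ n ∈ Nat.divisors 84, count g7 n = val [(1, 1), (2, 108), (3, 3), (4, 128), (6, 144), (7, 7), (12, 192), (14, 168), (21, 21), (28, 224), (42, 252), (84, 336)] n := by decide +kernel

def x11 (y : HD8C2) : ℕ :=
  ((match y.1 with | DihedralGroup.r i => 0 * i.val | DihedralGroup.sr i => 1 + 0 * i.val) + 0 * (Multiplicative.toAdd y.2).val) % 2

theorem x11_hom : (∀ y, x11 y < 2) ∧ ∀ a b, (x11 a + x11 b) % 2 = x11 (a * b) := by decide +kernel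

def g8 : List (Comp HD8C2) := [⟨7, 1, 1, 2, by decide, by norm_num, by decide, s7_2, b7_2.1, b7_2.2, x11, x11_hom.1, x11_hom.2⟩]

theorem r8 : Realised 84 (count g8) := realised_ext g8 84 (by decide +kernel)

theorem v8 : ∀ n ∈ Nat.divisors 84, count g8 n = val [(1, 1), (2, 60), (3, 1), (4, 64), (6, 60), (7, 7), (12, 64), (14, 84), (21, 7), (28, 112), (42, 84), (84, 112)] n := by decide +kernel

def x12 (y : HC2x6) : ℕ := (3 * (Multiplicative.toAdd y).1.val + 0 * (Multiplicative.toAdd y).2.1.val + 2 * (Multiplicative.toAdd y).2.2.val) % 6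

theorem x12_hom : (∀ y, x12 y < 6) ∧ ∀ a b, (x12 a + x12 b) % 6 = x12 (a * b) := by decide +kernel

def g9 : List (Comp HC2x6) := [⟨7, 1, 1, 6, by decide, by norm_num, by decide, s7_6, b7_6.1, b7_6.2, x12, x12_hom.1, x12_hom.2⟩,
  ⟨7, 1, 1, 2, by decide, by norm_num, by decide, s7_2, b7_2.1, b7_2.2, x2, x2_hom.1, x2_hom.2⟩,
  ⟨7, 1, 2, 2, by decide, by norm_num, by decide, s7_2, b7_2.1, b7_2.2, x3, x3_hom.1, x3_hom.2⟩,
  ⟨3, 1, 1, 2, by decide, by norm_num, by decide, s3_2, b3_2.1, b3_2.2, x2, x2_hom.1, x2_hom.2⟩]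

theorem r9 : Realised 84 (count g9) := realised_ext g9 84 (by decide +kernel)

theorem v9 : ∀ n ∈ Nat.divisors 84, count g9 n = val [(1, 1), (2, 1520), (3, 45), (4, 1520), (6, 19008), (7, 2401), (12, 19008), (14, 19208), (21, 21609), (28, 19208), (42, 86436), (84, 86436)] n := by decide +kernel

def x13 (y : HC42) : ℕ := (1 * (Multiplicative.toAdd y).1.val + 0 * (Multiplicative.toAdd y).2.1.val + 0 * (Multiplicative.toAdd y).2.2.val) % 2

theorem x13_hom : (∀ y, x13 y < 2) ∧ ∀ a b, (x13 a + x13 b) % 2 = x13 (a * b) := by decide +kernel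

def x14 (y : HC42) : ℕ := (0 * (Multiplicative.toAdd y).1.val + 1 * (Multiplicative.toAdd y).2.1.val + 0 * (Multiplicative.toAdd y).2.2.val) % 3

theorem x14_hom : (∀ y, x14 y < 3) ∧ ∀ a b, (x14 a + x14 b) % 3 = x14 (a * b) := by decide +kernel

def g10 : List (Comp HC42) := [⟨3, 1, 2, 2, by decide, by norm_num, by decide, s3_2, b3_2.1, b3_2.2, x13, x13_hom.1, x13_hom.2⟩,
  ⟨7, 1, 2, 3, by decide, by norm_num, by decide, s7_3, b7_3.1, b7_3.2, x14, x14_hom.1, x14_hom.2⟩]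

theorem r10 : Realised 84 (count g10) := realised_ext g10 84 (by decide +kernel)

theorem v10 : ∀ n ∈ Nat.divisors 84, count g10 n = val [(1, 1), (2, 10), (3, 891), (4, 10), (6, 1782), (7, 343), (12, 1782), (14, 3430), (21, 9261), (28, 3430), (42, 18522), (84, 18522)] n := by decide +kernel

def g11 : List (Comp HC42) := [⟨7, 1, 2, 2, by decide, by norm_num, by decide, s7_2, b7_2.1, b7_2.2, x13, x13_hom.1, x13_hom.2⟩,
  ⟨2, 3, 2, 7, by decide, by norm_num, by decide, s2_7, b2_7.1, b2_7.2, x1, x1_hom.1, x1_hom.2⟩,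
  ⟨2, 2, 1, 3, by decide, by norm_num, by decide, s2_3, b2_3.1, b2_3.2, x14, x14_hom.1, x14_hom.2⟩]

theorem r11 : Realised 84 (count g11) := realised_ext g11 84 (by decide +kernel)

theorem v11 : ∀ n ∈ Nat.divisors 84, count g11 n = val [(1, 1), (2, 12800), (3, 9), (4, 12800), (6, 38400), (7, 18865), (12, 38400), (14, 175616), (21, 169785), (28, 175616), (42, 526848), (84, 526848)] n := by decide +kernel

def g12 : List (Comp HC2x6) := [⟨3, 1, 3, 2, by decide, by norm_num, by decide, s3_2, b3_2.1, b3_2.2, x3, x3_hom.1, x3_hom.2⟩,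
  ⟨2, 2, 2, 3, by decide, by norm_num, by decide, s2_3, b2_3.1, b2_3.2, x8, x8_hom.1, x8_hom.2⟩]

theorem r12 : Realised 84 (count g12) := realised_ext g12 84 (by decide +kernel)

theorem v12 : ∀ n ∈ Nat.divisors 84, count g12 n = val [(1, 1), (2, 896), (3, 891), (4, 896), (6, 5184), (7, 1), (12, 5184), (14, 896), (21, 891), (28, 896), (42, 5184), (84, 5184)] n := by decide +kernel

def x15 (y : HC42) : ℕ := (0 * (Multiplicative.toAdd y).1.val + 7 * (Multiplicative.toAdd y).2.1.val + 3 * (Multiplicative.toAdd y).2.2.val) % 21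

theorem x15_hom : (∀ y, x15 y < 21) ∧ ∀ a b, (x15 a + x15 b) % 21 = x15 (a * b) := by decide +kernel

def g13 : List (Comp HC42) := [⟨3, 1, 2, 2, by decide, by norm_num, by decide, s3_2, b3_2.1, b3_2.2, x13, x13_hom.1, x13_hom.2⟩,
  ⟨2, 2, 1, 3, by decide, by norm_num, by decide, s2_3, b2_3.1, b2_3.2, x14, x14_hom.1, x14_hom.2⟩,
  ⟨2, 6, 1, 21, by decide, by norm_num, by decide, s2_21, b2_21.1, b2_21.2, x15, x15_hom.1, x15_hom.2⟩]

theorem r13 : Realised 84 (count g13) := realised_ext g13 84 (by decide +kernel)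

theorem v13 : ∀ n ∈ Nat.divisors 84, count g13 n = val [(1, 1), (2, 2560), (3, 4617), (4, 2560), (6, 13824), (7, 385), (12, 13824), (14, 17920), (21, 35721), (28, 17920), (42, 96768), (84, 96768)] n := by decide +kernel

def g14 : List (Comp HC2x6) := [⟨3, 1, 1, 2, by decide, by norm_num, by decide, s3_2, b3_2.1, b3_2.2, x3, x3_hom.1, x3_hom.2⟩,
  ⟨3, 1, 2, 2, by decide, by norm_num, by decide, s3_2, b3_2.1, b3_2.2, x4, x4_hom.1, x4_hom.2⟩]

theorem r14 : Realised 84 (count g14) := realised_ext g14 84 (by decide +kernel)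

theorem v14 : ∀ n ∈ Nat.divisors 84, count g14 n = val [(1, 1), (2, 40), (3, 81), (4, 40), (6, 324), (7, 1), (12, 324), (14, 40), (21, 81), (28, 40), (42, 324), (84, 324)] n := by decide +kernel

def x16 (y : HV4) : ℕ := (1 * (Multiplicative.toAdd y).1.val + 1 * (Multiplicative.toAdd y).2.val) % 2

theorem x16_hom : (∀ y, x16 y < 2) ∧ ∀ a b, (x16 a + x16 b) % 2 = x16 (a * b) := by decide +kernel

def g15 : List (Comp HV4) := [⟨3, 1, 2, 2, by decide, by norm_num, by decide, s3_2, b3_2.1, b3_2.2, x16, x16_hom.1, x16_hom.2⟩,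
  ⟨7, 1, 1, 2, by decide, by norm_num, by decide, s7_2, b7_2.1, b7_2.2, x5, x5_hom.1, x5_hom.2⟩,
  ⟨7, 1, 1, 2, by decide, by norm_num, by decide, s7_2, b7_2.1, b7_2.2, x16, x16_hom.1, x16_hom.2⟩]

theorem r15 : Realised 84 (count g15) := realised_ext g15 84 (by decide +kernel)

theorem v15 : ∀ n ∈ Nat.divisors 84, count g15 n = val [(1, 1), (2, 512), (3, 9), (4, 512), (6, 576), (7, 49), (12, 576), (14, 980), (21, 441), (28, 980), (42, 1764), (84, 1764)] n := by decide +kernel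

def g16 : List (Comp HC2x6) := [⟨3, 1, 2, 2, by decide, by norm_num, by decide, s3_2, b3_2.1, b3_2.2, x3, x3_hom.1, x3_hom.2⟩,
  ⟨7, 1, 1, 6, by decide, by norm_num, by decide, s7_6, b7_6.1, b7_6.2, x12, x12_hom.1, x12_hom.2⟩]

theorem r16 : Realised 84 (count g16) := realised_ext g16 84 (by decide +kernel)

theorem v16 : ∀ n ∈ Nat.divisors 84, count g16 n = val [(1, 1), (2, 80), (3, 135), (4, 80), (6, 648), (7, 7), (12, 648), (14, 140), (21, 189), (28, 140), (42, 756), (84, 756)] n := by decide +kernel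

def g17 : List (Comp HD8C2) := [⟨3, 1, 2, 2, by decide, by norm_num, by decide, s3_2, b3_2.1, b3_2.2, x9, x9_hom.1, x9_hom.2⟩,
  ⟨7, 1, 1, 2, by decide, by norm_num, by decide, s7_2, b7_2.1, b7_2.2, x10, x10_hom.1, x10_hom.2⟩]

theorem r17 : Realised 84 (count g17) := realised_ext g17 84 (by decide +kernel)

theorem v17 : ∀ n ∈ Nat.divisors 84, count g17 n = val [(1, 1), (2, 288), (3, 9), (4, 320), (6, 432), (7, 7), (12, 576), (14, 420), (21, 63), (28, 560), (42, 756), (84, 1008)] n := by decide +kernel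

def x17 (y : HD8C2) : ℕ :=
  ((match y.1 with | DihedralGroup.r i => 0 * i.val | DihedralGroup.sr i => 1 + 0 * i.val) + 1 * (Multiplicative.toAdd y.2).val) % 2

theorem x17_hom : (∀ y, x17 y < 2) ∧ ∀ a b, (x17 a + x17 b) % 2 = x17 (a * b) := by decide +kernel

def g18 : List (Comp HD8C2) := [⟨7, 1, 1, 2, by decide, by norm_num, by decide, s7_2, b7_2.1, b7_2.2, x9, x9_hom.1, x9_hom.2⟩,
  ⟨7, 1, 1, 2, by decide, by norm_num, by decide, s7_2, b7_2.1, b7_2.2, x17, x17_hom.1, x17_hom.2⟩]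

theorem r18 : Realised 84 (count g18) := realised_ext g18 84 (by decide +kernel)

theorem v18 : ∀ n ∈ Nat.divisors 84, count g18 n = val [(1, 1), (2, 156), (3, 1), (4, 256), (6, 156), (7, 49), (12, 256), (14, 588), (21, 49), (28, 784), (42, 588), (84, 784)] n := by decide +kernel

def g19 : List (Comp HC42) := [⟨7, 1, 2, 2, by decide, by norm_num, by decide, s7_2, b7_2.1, b7_2.2, x13, x13_hom.1, x13_hom.2⟩,
  ⟨2, 3, 1, 7, by decide, by norm_num, by decide, s2_7, b2_7.1, b2_7.2, x1, x1_hom.1, x1_hom.2⟩]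

theorem r19 : Realised 84 (count g19) := realised_ext g19 84 (by decide +kernel)

theorem v19 : ∀ n ∈ Nat.divisors 84, count g19 n = val [(1, 1), (2, 400), (3, 3), (4, 400), (6, 1200), (7, 2401), (12, 1200), (14, 5488), (21, 7203), (28, 5488), (42, 16464), (84, 16464)] n := by decide +kernel

def g20 : List (Comp HD8C2) := [⟨3, 1, 2, 2, by decide, by norm_num, by decide, s3_2, b3_2.1, b3_2.2, x7, x7_hom.1, x7_hom.2⟩,
  ⟨7, 1, 1, 2, by decide, by norm_num, by decide, s7_2, b7_2.1, b7_2.2, x7, x7_hom.1, x7_hom.2⟩]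

theorem r20 : Realised 84 (count g20) := realised_ext g20 84 (by decide +kernel)

theorem v20 : ∀ n ∈ Nat.divisors 84, count g20 n = val [(1, 1), (2, 260), (3, 9), (4, 512), (6, 324), (7, 7), (12, 576), (14, 308), (21, 63), (28, 560), (42, 756), (84, 1008)] n := by decide +kernel

def g21 : List (Comp HD8C2) := [⟨7, 1, 2, 2, by decide, by norm_num, by decide, s7_2, b7_2.1, b7_2.2, x9, x9_hom.1, x9_hom.2⟩,
  ⟨3, 1, 2, 2, by decide, by norm_num, by decide, s3_2, b3_2.1, b3_2.2, x7, x7_hom.1, x7_hom.2⟩]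

theorem r21 : Realised 84 (count g21) := realised_ext g21 84 (by decide +kernel)

theorem v21 : ∀ n ∈ Nat.divisors 84, count g21 n = val [(1, 1), (2, 1100), (3, 9), (4, 2000), (6, 2700), (7, 49), (12, 3600), (14, 2156), (21, 441), (28, 3920), (42, 5292), (84, 7056)] n := by decide +kernel

def g22 : List (Comp HD8C2) := [⟨3, 1, 2, 2, by decide, by norm_num, by decide, s3_2, b3_2.1, b3_2.2, x9, x9_hom.1, x9_hom.2⟩]

theorem r22 : Realised 84 (count g22) := realised_ext g22 84 (by decide +kernel)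

theorem v22 : ∀ n ∈ Nat.divisors 84, count g22 n = val [(1, 1), (2, 60), (3, 9), (4, 80), (6, 108), (7, 1), (12, 144), (14, 60), (21, 9), (28, 80), (42, 108), (84, 144)] n := by decide +kernel

def g23 : List (Comp HD8C2) := [⟨7, 1, 2, 2, by decide, by norm_num, by decide, s7_2, b7_2.1, b7_2.2, x9, x9_hom.1, x9_hom.2⟩,
  ⟨3, 1, 1, 2, by decide, by norm_num, by decide, s3_2, b3_2.1, b3_2.2, x7, x7_hom.1, x7_hom.2⟩]

theorem r23 : Realised 84 (count g23) := realised_ext g23 84 (by decide +kernel)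

theorem v23 : ∀ n ∈ Nat.divisors 84, count g23 n = val [(1, 1), (2, 500), (3, 3), (4, 800), (6, 900), (7, 49), (12, 1200), (14, 980), (21, 147), (28, 1568), (42, 1764), (84, 2352)] n := by decide +kernel

def g24 : List (Comp HC42) := [⟨7, 1, 1, 3, by decide, by norm_num, by decide, s7_3, b7_3.1, b7_3.2, x14, x14_hom.1, x14_hom.2⟩,
  ⟨2, 3, 1, 7, by decide, by norm_num, by decide, s2_7, b2_7.1, b2_7.2, x1, x1_hom.1, x1_hom.2⟩]

theorem r24 : Realised 84 (count g24) := realised_ext g24 84 (by decide +kernel)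

theorem v24 : ∀ n ∈ Nat.divisors 84, count g24 n = val [(1, 1), (2, 16), (3, 15), (4, 16), (6, 240), (7, 343), (12, 240), (14, 784), (21, 1029), (28, 784), (42, 2352), (84, 2352)] n := by decide +kernel

def pos (n : ℕ) : ℕ := count g0 n ^ 7 * count g1 n ^ 1 * count g2 n ^ 1 * count g5 n ^ 2 * count g7 n ^ 1 * count g10 n ^ 1 * count g11 n ^ 1 * count g16 n ^ 4 * count g18 n ^ 1 * count g21 n ^ 1 * count g22 n ^ 1 * count g23 n ^ 3

def neg (n : ℕ) : ℕ := count g3 n ^ 4 * count g4 n ^ 2 * count g6 n ^ 1 * count g8 n ^ 1 * count g9 n ^ 1 * count g12 n ^ 1 * count g13 n ^ 1 * count g14 n ^ 2 * count g15 n ^ 2 * count g17 n ^ 2 * count g19 n ^ 1 * count g20 n ^ 1 * count g24 n ^ 5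

theorem pos_real : Realised 84 pos :=
  ((((((((((((r0.pow 7).mul (r1.pow 1)).mul (r2.pow 1)).mul (r5.pow 2)).mul (r7.pow 1)).mul (r10.pow 1)).mul (r11.pow 1)).mul (r16.pow 4)).mul (r18.pow 1)).mul (r21.pow 1)).mul (r22.pow 1)).mul (r23.pow 3))

theorem neg_real : Realised 84 neg :=
  (((((((((((((r3.pow 4).mul (r4.pow 2)).mul (r6.pow 1)).mul (r8.pow 1)).mul (r9.pow 1)).mul (r12.pow 1)).mul (r13.pow 1)).mul (r14.pow 2)).mul (r15.pow 2)).mul (r17.pow 2)).mul (r19.pow 1)).mul (r20.pow 1)).mul (r24.pow 5))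

theorem balance : ∀ n ∈ Nat.divisors 84, lval n * neg n = pos n := by
  intro n hn
  simp only [pos, neg, v0 n hn, v1 n hn, v2 n hn, v3 n hn, v4 n hn, v5 n hn, v6 n hn, v7 n hn, v8 n hn, v9 n hn, v10 n hn, v11 n hn, v12 n hn, v13 n hn, v14 n hn, v15 n hn, v16 n hn, v17 n hn, v18 n hn, v19 n hn, v20 n hn, v21 n hn, v22 n hn, v23 n hn, v24 n hn]
  revert n
  decide +kernel

end Cfsg.Agent.Lib.OrderType.Piwek
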